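import Groth.Agent.TateGlob.K828.LimitBig
import Groth.Agent.TateGlob.K827.Abs
import Groth.Agent.TateGlob.K828.LSys

/-! A class of fppf cohomology over an affine scheme with values in a limit preserving sheaf which dies over an affine
scheme dies over one of finite presentation. -/

set_option autoImplicit false
universe u
open CategoryTheory CategoryTheory.Limits AlgebraicGeometry Opposite

noncomputable section

namespace K986.DieFin

open K828.LExt K828.LPre

local notation "K" => Scheme.fppfPrecoverage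

theorem res_mono {S : Scheme.{u}} {F : BigSite.Ab K S} {n : ℕ} (x : BigSite.H K S F n) {T V : Over S} (g : T ⟶ V)
    (h : HRes.res K F n V x = 0) : HRes.res K F n T x = 0 := by
  rw [← K827.Abs.resHU_res n F g x, h, map_zero]

theorem exists_fp {S : Scheme.{u}} [IsAffine S] {F : BigSite.Ab K S} (hF : LP F.obj) {n : ℕ}
    (x : BigSite.H K S F n) (T : Over S) [IsAffine T.left] (hx : HRes.res K F n T x = 0) :
    ∃ (V : Over S) (_ : T ⟶ V), IsAffine V.left ∧ LocallyOfFinitePresentation V.hom ∧ HRes.res K F n V x = 0 := by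
  obtain ⟨I, _, _, D, c, ⟨hc⟩, hD, rfl⟩ := exists_system T
  obtain ⟨i⟩ : Nonempty I := IsCofiltered.nonempty
  have h1 : HRes.resHU K F n (c.π.app i) (HRes.res K F n (D.obj i) x) = 0 :=
    (K827.Abs.resHU_res n F (c.π.app i) x).trans hx
  obtain ⟨j, φ, hφ⟩ := K828.LimitBig.exists_resHU_eq_zero hc (fun i => (hD i).1) inferInstance hF _ h1
  rw [K827.Abs.resHU_res] at hφ
  exact ⟨D.obj j, c.π.app j, (hD j).1, (hD j).2, hφ⟩

section ring

variable {R : Type u} [CommRing R] {F : BigSite.Ab K (Spec (CommRingCat.of R))} {n : ℕ}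
  (x : BigSite.H K (Spec (CommRingCat.of R)) F n)

/-- the class dies over an algebra -/
def Dies (B : Type u) [CommRing B] [Algebra R B] : Prop :=
  HRes.pull K (Spec.map (CommRingCat.ofHom (algebraMap R B))) F n x = 0

theorem Dies.map {B : Type u} [CommRing B] [Algebra R B] (h : Dies x B) {C : Type u} [CommRing C] [Algebra R C]
    (φ : B →ₐ[R] C) : Dies x C := by
  refine res_mono x (T := Over.mk (Spec.map (CommRingCat.ofHom (algebraMap R C))))
    (V := Over.mk (Spec.map (CommRingCat.ofHom (algebraMap R B))))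
    (Over.homMk (Spec.map (CommRingCat.ofHom φ.toRingHom)) ?_) h
  change Spec.map _ ≫ Spec.map _ = Spec.map _
  rw [← Spec.map_comp, ← CommRingCat.ofHom_comp]
  congr 2
  exact φ.comp_algebraMap

theorem exists_fp_alg (hF : LP F.obj) (C : Type u) [CommRing C] [Algebra R C] (hx : Dies x C) :
    ∃ (B : Type u) (_ : CommRing B) (_ : Algebra R B) (_ : Algebra.FinitePresentation R B) (_ : B →ₐ[R] C),
      Dies x B := by
  let T : Over (Spec (CommRingCat.of R)) := Over.mk (Spec.map (CommRingCat.ofHom (algebraMap R C)))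
  have hT : IsAffine T.left := (inferInstance : IsAffine (Spec (CommRingCat.of C)))
  obtain ⟨V, t, hV, hVf, hVx⟩ := exists_fp hF x T hx
  let ρ : CommRingCat.of R ⟶ Γ(V.left, ⊤) := (Scheme.ΓSpecIso (CommRingCat.of R)).inv ≫ V.hom.appTop
  letI : Algebra R Γ(V.left, ⊤) := ρ.hom.toAlgebra
  have e1 : V.left.isoSpec.inv ≫ V.hom = Spec.map ρ := by
    rw [← Scheme.isoSpec_inv_naturality, Scheme.isoSpec_Spec_inv, ← Spec.map_comp]
  have h1 : LocallyOfFinitePresentation (Spec.map ρ) := by
    rw [← e1]; infer_instance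
  have h2 : Algebra.FinitePresentation R Γ(V.left, ⊤) := by
    rw [LocallyOfFinitePresentation.SpecMap_iff] at h1
    exact h1
  let τ : Γ(V.left, ⊤) ⟶ CommRingCat.of C := t.left.appTop ≫ (Scheme.ΓSpecIso (CommRingCat.of C)).hom
  have e2 : ρ ≫ τ = CommRingCat.ofHom (algebraMap R C) := by
    have h3 : t.left ≫ V.hom = Spec.map (CommRingCat.ofHom (algebraMap R C)) := Over.w t
    have h4 : V.hom.appTop ≫ t.left.appTop = (Spec.map (CommRingCat.ofHom (algebraMap R C))).appTop := by
      rw [← Scheme.Hom.comp_appTop, h3]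
    change ((Scheme.ΓSpecIso (CommRingCat.of R)).inv ≫ V.hom.appTop) ≫ t.left.appTop ≫ _ = _
    rw [Category.assoc, reassoc_of% h4, Scheme.ΓSpecIso_naturality, Iso.inv_hom_id_assoc]
  refine ⟨Γ(V.left, ⊤), inferInstance, inferInstance, h2, { τ.hom with
    commutes' := fun r => congrArg (fun q => q.hom r) e2 }, ?_⟩
  exact res_mono x (T := Over.mk (Spec.map ρ)) (V := V) (Over.homMk V.left.isoSpec.inv e1) hVx

end ring

end K986.DieFin
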