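import Groth.Agent.GaDual.K986.PushExact
import Groth.Agent.GaDual.K771.Char

/-! The retraction `f_* f⁻¹ Ĝ_a ⟶ Ĝ_a` of the unit for a finite étale morphism `f`, from a function of trace one. -/

set_option autoImplicit false
universe u
open CategoryTheory CategoryTheory.Limits AlgebraicGeometry TopologicalSpace Opposite

noncomputable section

namespace K986.GaRetr

open K778.NormAlg K778.NormSch K778.NormSplit K778 Groth.Agent.Etbase.FinEtSplit
  Groth.Agent.Etdl.H432.Sec K771.Pts K771.HomEv K771.Char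

local notation "K" => Scheme.fppfPrecoverage

variable {X X' : Scheme.{u}} (f : X' ⟶ X)

/-- `T ×_X X'` as an object over `X`. -/
abbrev GG (T : Over X) : Over X := (Over.map f).obj ((Over.pullback f).obj T)

/-- functoriality of `GG` -/
abbrev Gh {W T : Over X} (h : W ⟶ T) : GG f W ⟶ GG f T := (Over.map f).map ((Over.pullback f).map h)

/-- the projection -/
def pp (T : Over X) : GG f T ⟶ T := (Over.mapPullbackAdj f).counit.app T

theorem pp_left (T : Over X) : (pp f T).left = pr f T := rfl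

theorem Gh_pp {W T : Over X} (h : W ⟶ T) : Gh f h ≫ pp f T = pp f W ≫ h :=
  (Over.mapPullbackAdj f).counit.naturality h

theorem Gh_comp {W T U : Over X} (h : W ⟶ T) (k : T ⟶ U) : Gh f (h ≫ k) = Gh f h ≫ Gh f k := by
  rw [Gh, (Over.pullback f).map_comp, (Over.map f).map_comp]

/-- the section of `pp` over `X` given by a section of `f` -/
def cs {V : Over X} {σ : V.left ⟶ X'} (hσ : σ ≫ f = V.hom) : V ⟶ GG f V :=
  Over.homMk (cc hσ).left (by
    have h1 : (cc hσ).left ≫ ((Over.pullback f).obj V).hom = σ := Over.w (cc hσ)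
    change (cc hσ).left ≫ ((Over.pullback f).obj V).hom ≫ f = V.hom
    rw [← Category.assoc, h1, hσ])

theorem cs_pp {V : Over X} {σ : V.left ⟶ X'} (hσ : σ ≫ f = V.hom) : cs f hσ ≫ pp f V = 𝟙 V := by
  ext1
  exact cc_pr hσ

variable (lam : Γ(X', ⊤))

/-- the function `lam` on `T ×_X X'` -/
def lamT (T : Over X) : O (GG f T) := ((Over.pullback f).obj T).hom.appTop lam

theorem ro_Gh_lamT {W T : Over X} (h : W ⟶ T) : ro (Gh f h) (lamT f lam T) = lamT f lam W := by
  have h1 : ((Over.pullback f).map h).left ≫ ((Over.pullback f).obj T).hom = ((Over.pullback f).obj W).hom :=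
    Over.w _
  change ((Over.pullback f).map h).left.appTop (((Over.pullback f).obj T).hom.appTop lam) =
    ((Over.pullback f).obj W).hom.appTop lam
  rw [← comp_appTop_apply, h1]

theorem ro_cs_lamT {V : Over X} {σ : V.left ⟶ X'} (hσ : σ ≫ f = V.hom) :
    ro (cs f hσ) (lamT f lam V) = σ.appTop lam := by
  have h1 : (cc hσ).left ≫ ((Over.pullback f).obj V).hom = σ := Over.w (cc hσ)
  change (cc hσ).left.appTop (((Over.pullback f).obj V).hom.appTop lam) = _
  rw [← comp_appTop_apply, h1]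

/-- `y ↦ lam * y` -/
def ml (W : Over X) : Γs (Ga X) W →+ Γs (Ga X) (GG f W) where
  toFun y := gas (lamT f lam W * ro (pp f W) (ga y))
  map_zero' := by rw [ga_zero, map_zero, mul_zero, gas_zero]
  map_add' y y' := by rw [ga_add, map_add, mul_add, gas_add]

theorem ga_ml {W : Over X} (y : Γs (Ga X) W) : ga (ml f lam W y) = lamT f lam W * ro (pp f W) (ga y) := ga_gas _

theorem r_Gh_ml {W T : Over X} (h : W ⟶ T) (y : Γs (Ga X) T) :
    r (Ga X) (Gh f h) (ml f lam T y) = ml f lam W (r (Ga X) h y) := by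
  apply ga_injective
  rw [ga_r, ga_ml, ga_ml, map_mul, ro_Gh_lamT, ga_r, ro_ro, ro_ro, Gh_pp]

variable [IsLocallyNoetherian X] [IsFinite f] [Flat f]

/-- norm of functions -/
def NH (W : Over X) : O (GG f W) →* O W := NHom f W

theorem NH_nat {W T : Over X} (h : W ⟶ T) (b : O (GG f T)) : ro h (NH f T b) = NH f W (ro (Gh f h) b) :=
  (N_map f h b).symm

/-- norm of sections of `G_m` -/
def nmS (W : Over X) : Γs (Gm X) (GG f W) →+ Γs (Gm X) W where
  toFun z := gms (((isUnit_gm z).map (NH f W)).unit)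
  map_zero' := by
    apply gm_injective
    refine (gm_gms _).trans ?_
    change NH f W (gm (0 : Γs (Gm X) (GG f W))) = gm (0 : Γs (Gm X) W)
    rw [gm_zero, gm_zero, map_one]
  map_add' z z' := by
    apply gm_injective
    refine (gm_gms _).trans (Eq.trans ?_ (gm_add _ _).symm)
    rw [gm_gms, gm_gms]
    change NH f W (gm (z + z')) = NH f W (gm z) * NH f W (gm z')
    rw [gm_add, map_mul]

theorem gm_nmS {W : Over X} (z : Γs (Gm X) (GG f W)) : gm (nmS f W z) = NH f W (gm z) := gm_gms _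

theorem r_nmS {W T : Over X} (h : W ⟶ T) (z : Γs (Gm X) (GG f T)) :
    r (Gm X) h (nmS f T z) = nmS f W (r (Gm X) (Gh f h) z) := by
  apply gm_injective
  rw [gm_r, gm_nmS, gm_nmS, gm_r, NH_nat]

/-- the value of the retraction -/
def rho (T : Over X) (χ : Γs (Gad X) (GG f T)) : Γs (Gad X) T :=
  mk (fun W h => (nmS f W).comp ((ev χ (Gh f h)).comp (ml f lam W)))
    (fun W W' h k x => by
      change r (Gm X) k (nmS f W (ev χ (Gh f h) (ml f lam W x))) =
        nmS f W' (ev χ (Gh f (k ≫ h)) (ml f lam W' (r (Ga X) k x)))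
      rw [r_nmS, ev_r', ← Gh_comp, r_Gh_ml])

theorem ev_rho (T : Over X) (χ : Γs (Gad X) (GG f T)) {W : Over X} (h : W ⟶ T) (y : Γs (Ga X) W) :
    ev (rho f lam T χ) h y = nmS f W (ev χ (Gh f h) (ml f lam W y)) := rfl

theorem rho_zero (T : Over X) : rho f lam T 0 = 0 := by
  refine ev_ext fun W h y => ?_
  rw [ev_rho]
  exact map_zero (nmS f W)

theorem rho_add (T : Over X) (χ χ' : Γs (Gad X) (GG f T)) :
    rho f lam T (χ + χ') = rho f lam T χ + rho f lam T χ' := by
  refine ev_ext fun W h y => ?_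
  rw [ev_rho, ev_add, map_add]
  rfl

theorem rho_r {T T' : Over X} (k : T' ⟶ T) (χ : Γs (Gad X) (GG f T)) :
    rho f lam T' (r (Gad X) (Gh f k) χ) = r (Gad X) k (rho f lam T χ) := by
  refine ev_ext fun W h y => ?_
  rw [ev_rho, ev_r, ev_r, ev_rho, Gh_comp]

/-- `f_* f⁻¹ Ĝ_a` -/
abbrev PP : EtFppf.AbF X := (BigSite.pushBig K f AddCommGrpCat.{u + 1}).obj
    ((BigSite.pullBig K f AddCommGrpCat.{u + 1}).obj (Gad X))

/-- additive version of `rho` -/
def rhoA (T : Over X) : Γs (Gad X) (GG f T) →+ Γs (Gad X) T where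
  toFun χ := rho f lam T χ
  map_zero' := rho_zero f lam T
  map_add' := rho_add f lam T

theorem map_PP {T T' : Over X} (k : T' ⟶ T) (χ : Γs (Gad X) (GG f T)) :
    (PP f).obj.map k.op χ = r (Gad X) (Gh f k) χ := rfl

/-- the components of the retraction -/
def rhoApp (T : (Over X)ᵒᵖ) : (PP f).obj.obj T ⟶ (Gad X).obj.obj T := AddCommGrpCat.ofHom (rhoA f lam T.unop)

theorem rhoApp_apply (T : (Over X)ᵒᵖ) (χ : Γs (Gad X) (GG f T.unop)) : rhoApp f lam T χ = rho f lam T.unop χ := rfl

theorem rhoApp_nat (T T' : (Over X)ᵒᵖ) (k : T ⟶ T') :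
    (PP f).obj.map k ≫ rhoApp f lam T' = rhoApp f lam T ≫ (Gad X).obj.map k := by
  refine AddCommGrpCat.ext fun χ => ?_
  exact rho_r f lam k.unop χ

/-- the retraction -/
def rhoHom : PP f ⟶ Gad X :=
  ⟨{ app := rhoApp f lam
     naturality := rhoApp_nat f lam }⟩

/-- The trace condition. -/
def TrOne : Prop := ∀ (V : Over X) (n : ℕ) (s : Fin n → (V.left ⟶ X')) (_ : IsSplit f V.hom s),
  ∑ j, (s j).appTop lam = 1

variable [Etale f]

theorem key (hl : TrOne f lam) {T : Over X} (χ : Γs (Gad X) T) {W : Over X} (h : W ⟶ T) (y : Γs (Ga X) W) {n : ℕ}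
    {s : Fin n → (W.left ⟶ X')} (hs : IsSplit f W.hom s) :
    nmS f W (ev χ (pp f W ≫ h) (ml f lam W y)) = ev χ h y := by
  apply gm_injective
  rw [gm_nmS]
  have h1 : NH f W (gm (ev χ (pp f W ≫ h) (ml f lam W y))) =
      ∏ j, ro (cs f (hs.w j)) (gm (ev χ (pp f W ≫ h) (ml f lam W y))) :=
    IsNm.unique f (isNm_N f W _) (DualNorm.isNm_prod hs _)
  have h2 : ∀ j, ro (cs f (hs.w j)) (gm (ev χ (pp f W ≫ h) (ml f lam W y))) =
      gm (ev χ h (r (Ga X) (cs f (hs.w j)) (ml f lam W y))) := by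
    intro j
    rw [← gm_r, ev_r', ← Category.assoc, cs_pp, Category.id_comp]
  have h3 : ∀ (t : Finset (Fin n)) (z : Fin n → Γs (Gm X) W), ∏ j ∈ t, gm (z j) = gm (∑ j ∈ t, z j) := by
    classical
    intro t z
    induction t using Finset.induction_on with
    | empty => rw [Finset.prod_empty, Finset.sum_empty, gm_zero]
    | insert i t hi ih => rw [Finset.prod_insert hi, Finset.sum_insert hi, gm_add, ih]
  have h4 : ∀ (t : Finset (Fin n)) (z : Fin n → Γs (Ga X) W), ∑ j ∈ t, ga (z j) = ga (∑ j ∈ t, z j) := by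
    classical
    intro t z
    induction t using Finset.induction_on with
    | empty => rw [Finset.sum_empty, Finset.sum_empty, ga_zero]
    | insert i t hi ih => rw [Finset.sum_insert hi, Finset.sum_insert hi, ga_add, ih]
  rw [h1, Finset.prod_congr rfl fun j _ => h2 j, h3, ← map_sum]
  congr 2
  apply ga_injective
  rw [← h4]
  have h5 : ∀ j, ga (r (Ga X) (cs f (hs.w j)) (ml f lam W y)) = (s j).appTop lam * ga y := by
    intro j
    rw [ga_r, ga_ml, map_mul, ro_cs_lamT, ro_ro, cs_pp, ro_id]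
  rw [Finset.sum_congr rfl fun j _ => h5 j, ← Finset.sum_mul]
  exact (congrArg (· * ga y) (hl W n s hs)).trans (one_mul _)

theorem unit_rhoHom (hl : TrOne f lam) :
    (BigSite.bigAdj K f AddCommGrpCat.{u + 1}).unit.app (Gad X) ≫ rhoHom f lam = 𝟙 (Gad X) := by
  refine Sheaf.hom_ext (NatTrans.ext (funext fun T => AddCommGrpCat.ext fun χ => ?_))
  change rho f lam T.unop (r (Gad X) (pp f T.unop) χ) = (χ : Γs (Gad X) T.unop)
  refine ev_ext fun W h y => ?_
  rw [ev_rho, ev_r, Gh_pp]
  obtain ⟨I, V, g, hg, hgs, hs⟩ := DualIso.exists_split_cover f W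
  refine DisjSh.ext_of_cover (Gm X) V g hgs _ _ fun i => ?_
  obtain ⟨n, s, hs⟩ := hs i
  have e1 := key f lam hl χ (g i ≫ h) (r (Ga X) (g i) y) hs
  have e2 : r (Gm X) (g i) (nmS f W (ev χ (pp f W ≫ h) (ml f lam W y))) =
      r (Gm X) (g i) (ev χ h y) := by
    rw [r_nmS, ev_r', r_Gh_ml, ev_r', ← e1, ← Category.assoc, Gh_pp, Category.assoc]
  exact e2

/-- Injectivity of pullback along a finite étale morphism with a function of trace one, for the dual of `G_a`. -/
theorem pull_injective (hl : TrOne f lam) (n : ℕ) : Function.Injective (HRes.pull K f (Gad X) n) :=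
  PushExact.pull_injective_of_retraction f (Gad X) (rhoHom f lam) (unit_rhoHom f lam hl) n

end K986.GaRetr
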