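import Groth.Agent.GaDual.K771.Char
import Groth.Agent.RedSub.H635.GaSm
import Groth.Agent.TateGlob.K828.LPre
import Groth.Agent.TateGlob.K828.LSys

/-! The dual sheaf of `G_a` is limit preserving. -/

set_option autoImplicit false
universe u
open CategoryTheory CategoryTheory.Limits AlgebraicGeometry Opposite Polynomial

noncomputable section

namespace K986.GadLP

open Groth.Agent.Etdl.H432.Sec K771.Pts K771.HomEv K771.DDAlg K771.Char K828.LExt K828.LPre

variable {S : Scheme.{u}}

section sys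

variable {I : Type u} [SmallCategory I] [IsCofiltered I] {D : I ⥤ Over S} {c : Cone D}
  (hc : IsLimit ((Over.forget S).mapCone c)) (hD : ∀ i, IsAffine (D.obj i).left)

include hc hD

theorem exists_fn (f : O c.pt) : ∃ (i : I) (g : O (D.obj i)), ro (c.π.app i) g = f := by
  have h1 : Smooth (Red.Ga S).hom := Groth.Agent.RedSub.H635.GaSm.smooth_ga
  have h2 : LocallyOfFinitePresentation (Red.Ga S).hom := inferInstance
  obtain ⟨i, fi, hfi⟩ := exists_factor hc hD (Red.Ga S) (Groth.Agent.Sga3B.GaPts.gaPt c.pt f)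
  refine ⟨i, Red.gaFn fi, ?_⟩
  have h3 := Groth.Agent.Sga3B.GaPts.gaFn_comp (c.π.app i) fi
  exact h3.symm.trans ((congrArg Red.gaFn hfi).trans (Groth.Agent.Sga3B.GaPts.gaFn_gaPt c.pt f))

theorem exists_fn_eq {i : I} (g g' : O (D.obj i)) (h : ro (c.π.app i) g = ro (c.π.app i) g') :
    ∃ (j : I) (φ : j ⟶ i), ro (D.map φ) g = ro (D.map φ) g' := by
  have h1 : Smooth (Red.Ga S).hom := Groth.Agent.RedSub.H635.GaSm.smooth_ga
  have h2 : LocallyOfFinitePresentation (Red.Ga S).hom := inferInstance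
  obtain ⟨j, φ, hφ⟩ := exists_comp_eq hc hD (Red.Ga S) (Groth.Agent.Sga3B.GaPts.gaPt _ g)
    (Groth.Agent.Sga3B.GaPts.gaPt _ g') (by
      rw [Groth.Agent.Sga3B.GaPts.comp_gaPt, Groth.Agent.Sga3B.GaPts.comp_gaPt]
      exact congrArg _ h)
  refine ⟨j, φ, ?_⟩
  rw [Groth.Agent.Sga3B.GaPts.comp_gaPt, Groth.Agent.Sga3B.GaPts.comp_gaPt] at hφ
  have h3 := congrArg Red.gaFn hφ
  rw [Groth.Agent.Sga3B.GaPts.gaFn_gaPt, Groth.Agent.Sga3B.GaPts.gaFn_gaPt] at h3
  exact h3

/-- finitely many equations -/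
theorem exists_fn_eq_finset {ι : Type*} (t : Finset ι) {i : I} (g g' : ι → O (D.obj i))
    (h : ∀ a ∈ t, ro (c.π.app i) (g a) = ro (c.π.app i) (g' a)) :
    ∃ (j : I) (φ : j ⟶ i), ∀ a ∈ t, ro (D.map φ) (g a) = ro (D.map φ) (g' a) := by
  classical
  induction t using Finset.induction_on with
  | empty => exact ⟨i, 𝟙 i, fun a ha => absurd ha (Finset.notMem_empty a)⟩
  | insert b t hb ih =>
    obtain ⟨j, φ, hφ⟩ := ih fun a ha => h a (Finset.mem_insert_of_mem ha)
    have h1 := h b (Finset.mem_insert_self b t)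
    obtain ⟨k, ψ, hψ⟩ := exists_fn_eq hc hD (i := j) (ro (D.map φ) (g b)) (ro (D.map φ) (g' b)) (by
      rw [ro_ro, ro_ro, c.w]; exact h1)
    refine ⟨k, ψ ≫ φ, fun a ha => ?_⟩
    rw [D.map_comp, ← ro_ro, ← ro_ro]
    rcases Finset.mem_insert.mp ha with rfl | ha
    · exact hψ
    · rw [hφ a ha]

/-- finitely many functions -/
theorem exists_fn_finset (n : ℕ) (f : ℕ → O c.pt) : ∃ (i : I) (g : ℕ → O (D.obj i)),
    ∀ m < n, ro (c.π.app i) (g m) = f m := by
  induction n with
  | zero =>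
    obtain ⟨i⟩ : Nonempty I := IsCofiltered.nonempty
    exact ⟨i, fun _ => 0, fun m hm => absurd hm (Nat.not_lt_zero m)⟩
  | succ n ih =>
    obtain ⟨i, g, hg⟩ := ih
    obtain ⟨j, g', hg'⟩ := exists_fn hc hD (f n)
    obtain ⟨k, α, β, -⟩ := IsCofilteredOrEmpty.cone_objs i j
    refine ⟨k, fun m => if m = n then ro (D.map β) g' else ro (D.map α) (g m), fun m hm => ?_⟩
    dsimp only
    by_cases h : m = n
    · rw [if_pos h, ro_ro, c.w, hg', h]
    · rw [if_neg h, ro_ro, c.w, hg m (by omega)]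

/-- polynomials descend -/
theorem exists_poly (f : (O c.pt)[X]) : ∃ (i : I) (g : (O (D.obj i))[X]), g.map (ro (c.π.app i)) = f := by
  obtain ⟨i, g, hg⟩ := exists_fn_finset hc hD (f.natDegree + 1) f.coeff
  refine ⟨i, ∑ m ∈ Finset.range (f.natDegree + 1), C (g m) * X ^ m, ?_⟩
  rw [Polynomial.map_sum]
  conv_rhs => rw [f.as_sum_range_C_mul_X_pow]
  refine Finset.sum_congr rfl fun m hm => ?_
  rw [Polynomial.map_mul, Polynomial.map_C, Polynomial.map_pow, Polynomial.map_X, hg m (Finset.mem_range.mp hm)]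

theorem exists_poly_eq {i : I} (g g' : (O (D.obj i))[X]) (h : g.map (ro (c.π.app i)) = g'.map (ro (c.π.app i))) :
    ∃ (j : I) (φ : j ⟶ i), g.map (ro (D.map φ)) = g'.map (ro (D.map φ)) := by
  obtain ⟨j, φ, hφ⟩ := exists_fn_eq_finset hc hD (Finset.range (max g.natDegree g'.natDegree + 1)) g.coeff g'.coeff
    (fun a _ => by
      have := congrArg (fun q => q.coeff a) h
      simpa only [coeff_map] using this)
  refine ⟨j, φ, ?_⟩
  ext m
  rw [coeff_map, coeff_map]
  by_cases hm : m < max g.natDegree g'.natDegree + 1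
  · exact hφ m (Finset.mem_range.mpr hm)
  · rw [coeff_eq_zero_of_natDegree_lt (p := g) (by have := le_max_left g.natDegree g'.natDegree; omega),
      coeff_eq_zero_of_natDegree_lt (p := g') (by have := le_max_right g.natDegree g'.natDegree; omega)]

/-- characters descend -/
theorem exists_char (f : (O c.pt)[X]) (hf : IsChar f) :
    ∃ (i : I) (g : (O (D.obj i))[X]), IsChar g ∧ g.map (ro (c.π.app i)) = f := by
  obtain ⟨i, g, hg⟩ := exists_poly hc hD f
  let N := g.natDegree + 1
  obtain ⟨j, φ, hφ⟩ := exists_fn_eq_finset hc hD (Finset.range (N + 1) ×ˢ Finset.range (N + 1))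
    (fun a => g.coeff a.1 * g.coeff a.2) (fun a => ((a.1 + a.2).choose a.1 : O (D.obj i)) * g.coeff (a.1 + a.2))
    (fun a _ => by
      have h1 := hf.2 a.1 a.2
      rw [← hg, coeff_map, coeff_map, coeff_map] at h1
      simp only [map_mul, map_natCast]
      exact h1)
  obtain ⟨k, ψ, hψ⟩ := exists_fn_eq hc hD (i := j) (ro (D.map φ) (g.coeff 0)) 1 (by
    rw [ro_ro, c.w, map_one]
    have h1 := hf.1
    rw [← hg, coeff_map] at h1
    exact h1)
  refine ⟨k, g.map (ro (D.map (ψ ≫ φ))), ⟨?_, fun a b => ?_⟩, ?_⟩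
  · rw [coeff_map, D.map_comp, ← ro_ro, hψ, map_one]
  · by_cases ha : a < N + 1
    · by_cases hb : b < N + 1
      · have h1 := congrArg (ro (D.map ψ)) (hφ (a, b) (Finset.mem_product.mpr
          ⟨Finset.mem_range.mpr ha, Finset.mem_range.mpr hb⟩))
        simp only [map_mul, map_natCast, ro_ro, ← D.map_comp] at h1
        rw [coeff_map, coeff_map, coeff_map]
        exact h1
      · have h1 : g.coeff b = 0 := coeff_eq_zero_of_natDegree_lt (by omega)
        have h2 : g.coeff (a + b) = 0 := coeff_eq_zero_of_natDegree_lt (by omega)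
        rw [coeff_map, coeff_map, coeff_map, h1, h2, map_zero, mul_zero, mul_zero]
    · have h1 : g.coeff a = 0 := coeff_eq_zero_of_natDegree_lt (by omega)
      have h2 : g.coeff (a + b) = 0 := coeff_eq_zero_of_natDegree_lt (by omega)
      rw [coeff_map, coeff_map, coeff_map, h1, h2, map_zero, zero_mul, mul_zero]
  · rw [Polynomial.map_map]
    have h1 : (ro (c.π.app k)).comp (ro (D.map (ψ ≫ φ))) = ro (c.π.app i) := by
      ext a
      change ro (c.π.app k) (ro (D.map (ψ ≫ φ)) a) = _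
      rw [ro_ro, c.w]
    rw [h1, hg]

end sys

/-- The dual sheaf of the additive group is limit preserving. -/
theorem lp_gad : LP (Gad S).obj := by
  apply lp_of
  intro I _ _ D c hc hD hT
  constructor
  · intro x
    change Γs (Gad S) c.pt at x
    obtain ⟨i, g, hg, hgf⟩ := exists_char hc hD (poly x) (isChar_poly x)
    have := hD i
    refine ⟨i, ofChar g hg, ?_⟩
    let k : c.pt ⟶ D.obj i := c.π.app i
    change r (Gad S) k (ofChar g hg) = x
    apply poly_injective
    rw [poly_r, poly_ofChar]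
    exact hgf
  · intro i x hx
    change Γs (Gad S) (D.obj i) at x
    have := hD i
    let k : c.pt ⟶ D.obj i := c.π.app i
    have e : poly (r (Gad S) k x) = (poly x).map (ro k) := poly_r k x
    have hx' : r (Gad S) k x = 0 := hx
    rw [hx', poly_zero] at e
    obtain ⟨j, φ, hφ⟩ := exists_poly_eq hc hD (poly x) 1 (by rw [Polynomial.map_one]; exact e.symm)
    refine ⟨j, φ, ?_⟩
    have := hD j
    change r (Gad S) (D.map φ) x = 0
    apply poly_injective
    rw [poly_r, hφ, Polynomial.map_one, poly_zero]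

end K986.GadLP
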