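import Groth.Agent.GmDual.K778.DualIso
import Groth.Agent.Etcore.ExtAdj
import Groth.Agent.GrpQ.K185.Inst
import Groth.Prelude.Def_HRes

/-! Direct image along a finite étale morphism is exact on the big fppf sites; injectivity of pullback from a
retraction of the unit. -/

set_option autoImplicit false
universe u
open CategoryTheory CategoryTheory.Limits AlgebraicGeometry TopologicalSpace Opposite MonObj MonoidalCategory
  CartesianMonoidalCategory

namespace K986.PushExact

open K778.NormAlg K778.NormSch K778.NormSplit K778.ShSec K778.DualNorm CGrpSh3 Groth.Agent.Etbase.FinEtSplit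
  Groth.Agent.Etbase.FinEtPush K778
open scoped K185

local notation "K" => Scheme.fppfPrecoverage

variable {X X' : Scheme.{u}} (f : X' ⟶ X)

instance preservesFiniteLimits_pushBig : PreservesFiniteLimits (BigSite.pushBig K f AddCommGrpCat.{u + 1}) := by
  have h1 : PreservesFiniteLimits (BigSite.pushBig K f AddCommGrpCat.{u + 1} ⋙
      sheafToPresheaf (QuotSh.J K X) AddCommGrpCat.{u + 1}) :=
    inferInstanceAs (PreservesFiniteLimits (sheafToPresheaf (QuotSh.J K X') AddCommGrpCat.{u + 1} ⋙
      (Functor.whiskeringLeft _ _ AddCommGrpCat.{u + 1}).obj (Over.pullback f).op))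
  exact preservesFiniteLimits_of_reflects_of_preserves (BigSite.pushBig K f AddCommGrpCat.{u + 1})
    (sheafToPresheaf (QuotSh.J K X) AddCommGrpCat.{u + 1})

variable [IsFinite f] [Etale f]

theorem epi_map {F G : BigSite.Ab K X'} (φ : F ⟶ G) [Epi φ] :
    Epi ((BigSite.pushBig K f AddCommGrpCat.{u + 1}).map φ) := by
  refine K731.Basic.epi_of_exists_lift _ fun T b => ?_
  change G.obj.obj (op ((Over.pullback f).obj T)) at b
  obtain ⟨I, V, g, hg, hgs, hs⟩ := DualIso.exists_split_cover f T
  have key : ∀ i, ∃ R ∈ QuotSh.J K X (V i), ∀ ⦃Y : Over X⦄ (k : Y ⟶ V i), R k →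
      ∃ a : F.obj.obj (op ((Over.pullback f).obj Y)),
        φ.hom.app (op ((Over.pullback f).obj Y)) a = G.obj.map ((Over.pullback f).map (k ≫ g i)).op b := by
    intro i
    obtain ⟨n, s, hs⟩ := hs i
    have h1 : ∀ j : Fin n, ∃ P ∈ K (V i).left, ∀ ⦃Y : Scheme.{u}⦄ (q : Y ⟶ (V i).left), P q →
      ∃ a : F.obj.obj (op (Over.mk (q ≫ s j))),
        φ.hom.app _ a = G.obj.map (Over.homMk q : Over.mk (q ≫ s j) ⟶ Over.mk (s j)).op
          (G.obj.map (cc (hs.w j)).op (G.obj.map ((Over.pullback f).map (g i)).op b)) := fun j =>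
      K731.Basic.exists_cover_of_epi φ (Over.mk (s j)) _
    choose P hP hP' using h1
    refine ⟨Finset.univ.inf fun j => (Sieve.overEquiv (V i)).symm (Sieve.generate (P j)), ?_, ?_⟩
    · have : ∀ t : Finset (Fin n), (t.inf fun j => (Sieve.overEquiv (V i)).symm (Sieve.generate (P j))) ∈
          QuotSh.J K X (V i) := by
        classical
        intro t
        induction t using Finset.induction_on with
        | empty => exact (QuotSh.J K X).top_mem _
        | insert j t _ ih =>
          rw [Finset.inf_insert]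
          exact (QuotSh.J K X).intersection_covering (K731.Basic.mem_J_of_mem (hP j)) ih
      exact this _
    · intro Y k hk
      have h2 : ∀ j, ∃ (a : F.obj.obj (op (Over.mk (k.left ≫ s j)))),
          φ.hom.app _ a = G.obj.map (Over.homMk k.left : Over.mk (k.left ≫ s j) ⟶ Over.mk (s j)).op
          (G.obj.map (cc (hs.w j)).op (G.obj.map ((Over.pullback f).map (g i)).op b)) := by
        intro j
        have h3 : ((Sieve.overEquiv (V i)).symm (Sieve.generate (P j))) k :=
          (Finset.inf_le (Finset.mem_univ j) :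
            (Finset.univ.inf fun j => (Sieve.overEquiv (V i)).symm (Sieve.generate (P j))) ≤ _) _ hk
        obtain ⟨W, l, q, hq, hlq⟩ := h3
        change Y.left ⟶ W at l
        change l ≫ q = k.left at hlq
        obtain ⟨a, ha⟩ := hP' j q hq
        let l' : Over.mk (k.left ≫ s j) ⟶ Over.mk (q ≫ s j) := Over.homMk l (by
          change l ≫ q ≫ s j = k.left ≫ s j
          rw [← hlq, Category.assoc])
        have hl' : l' ≫ (Over.homMk q : Over.mk (q ≫ s j) ⟶ Over.mk (s j)) =
            (Over.homMk k.left : Over.mk (k.left ≫ s j) ⟶ Over.mk (s j)) := by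
          ext1
          exact hlq
        refine ⟨F.obj.map l'.op a, ?_⟩
        have e1 : φ.hom.app (op (Over.mk (k.left ≫ s j))) (F.obj.map l'.op a) =
            G.obj.map l'.op (φ.hom.app _ a) := ConcreteCategory.congr_hom (φ.hom.naturality l'.op) a
        rw [e1, ha, ← ConcreteCategory.comp_apply, ← G.obj.map_comp, ← op_comp, hl']
      choose a ha using h2
      have h' : IsSplit f Y.hom (fun j => k.left ≫ s j) := by
        rw [← Over.w k]; exact hs.comp k.left
      refine ⟨∑ j, sh F (h'.w j) (a j), ?_⟩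
      refine ext_cc h' _ _ fun j => ?_
      have e1 : G.obj.map (cc (h'.w j)).op (φ.hom.app (op ((Over.pullback f).obj Y)) (∑ j, sh F (h'.w j) (a j))) =
          φ.hom.app _ (F.obj.map (cc (h'.w j)).op (∑ j, sh F (h'.w j) (a j))) :=
        (ConcreteCategory.congr_hom (φ.hom.naturality (cc (h'.w j)).op) _).symm
      have e2 : F.obj.map (cc (h'.w j)).op (∑ j, sh F (h'.w j) (a j)) = a j := by
        classical
        rw [map_sum, Finset.sum_eq_single j]
        · exact map_cc_sh_self h' j _
        · intro l _ hl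
          exact map_cc_sh h' j l hl.symm _
        · intro hi
          exact absurd (Finset.mem_univ j) hi
      rw [e1, e2, ha, ← ConcreteCategory.comp_apply, ← ConcreteCategory.comp_apply, ← ConcreteCategory.comp_apply,
        ← G.obj.map_comp, ← G.obj.map_comp, ← G.obj.map_comp, ← op_comp, ← op_comp, ← op_comp,
        (Over.pullback f).map_comp, ← Category.assoc, cc_nat k (hs.w j) (h'.w j)]
  choose R hR hR' using key
  refine ⟨Sieve.bind (Presieve.ofArrows V g) (fun Y q hq => (Sieve.pullback q (Sieve.generate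
    (fun Z k => ∃ a : F.obj.obj (op ((Over.pullback f).obj Z)),
        φ.hom.app (op ((Over.pullback f).obj Z)) a = G.obj.map ((Over.pullback f).map k).op b)))), ?_, ?_⟩
  · refine (QuotSh.J K X).transitive (DisjSh.mem_J V g hgs) _ ?_
    rintro Z q ⟨Y, l, k, ⟨i⟩, rfl⟩
    rw [Sieve.pullback_comp]
    refine (QuotSh.J K X).pullback_stable _ ?_
    refine (QuotSh.J K X).superset_covering ?_ (hR i)
    intro W k hk
    exact ⟨V i, k, g i, ⟨i⟩, ⟨W, 𝟙 _, k ≫ g i, hR' i k hk, Category.id_comp _⟩, rfl⟩
  · rintro Y q ⟨Z, l, k, hk, ⟨W, l', k', ⟨a, ha⟩, h2⟩, rfl⟩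
    refine ⟨F.obj.map ((Over.pullback f).map l').op a, ?_⟩
    have e1 : φ.hom.app (op ((Over.pullback f).obj Y)) (F.obj.map ((Over.pullback f).map l').op a) =
      G.obj.map ((Over.pullback f).map l').op (φ.hom.app _ a) :=
        ConcreteCategory.congr_hom (φ.hom.naturality ((Over.pullback f).map l').op) a
    refine e1.trans ?_
    rw [ha, ← ConcreteCategory.comp_apply, ← G.obj.map_comp, ← op_comp, ← (Over.pullback f).map_comp, h2]
    rfl

theorem preservesFiniteColimits_pushBig :
    PreservesFiniteColimits (BigSite.pushBig K f AddCommGrpCat.{u + 1}) := by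
  have h := (Functor.exact_tfae (BigSite.pushBig K f AddCommGrpCat.{u + 1})).out 0 3
  refine (h.mp fun S hS => ?_).2
  have h1 := (Functor.preservesFiniteLimits_iff_forall_exact_map_and_mono
    (BigSite.pushBig K f AddCommGrpCat.{u + 1})).mp (preservesFiniteLimits_pushBig f) S hS
  have h2 : Epi S.g := hS.epi_g
  exact { exact := h1.1, mono_f := h1.2, epi_g := epi_map f S.g }

/-- If the unit `F ⟶ f_* f⁻¹ F` has a retraction then pullback on cohomology is injective in all degrees. -/
theorem pull_injective_of_retraction (F : BigSite.Ab K X)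
    (ρ : (BigSite.pushBig K f AddCommGrpCat.{u + 1}).obj ((BigSite.pullBig K f AddCommGrpCat.{u + 1}).obj F) ⟶ F)
    (hρ : (BigSite.bigAdj K f AddCommGrpCat.{u + 1}).unit.app F ≫ ρ = 𝟙 F) (n : ℕ) :
    Function.Injective (HRes.pull K f F n) := by
  have := preservesFiniteColimits_pushBig f
  rw [injective_iff_map_eq_zero]
  intro x hx
  have h1 : x.mapExactFunctor (BigSite.pullBig K f AddCommGrpCat.{u + 1}) = 0 := by
    rw [HRes.pull_apply] at hx
    have h2 := congrArg (fun z => (Abelian.Ext.mk₀ (HRes.pullConst K f (AddCommGrpCat.of (ULift.{u + 1} ℤ))).hom).comp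
      z (zero_add n)) hx
    simp only [← Abelian.Ext.comp_assoc_of_second_deg_zero, Abelian.Ext.mk₀_comp_mk₀, Iso.hom_inv_id,
      Abelian.Ext.mk₀_id_comp, Abelian.Ext.comp_zero] at h2
    exact h2
  have h2 := Groth.Agent.Etcore.ExtAdj.unit_nat (BigSite.bigAdj K f AddCommGrpCat.{u + 1}) x
  rw [h1, Abelian.Ext.mapExactFunctor_zero, Abelian.Ext.comp_zero] at h2
  have h3 := congrArg (fun z => z.comp (Abelian.Ext.mk₀ ρ) (add_zero n)) h2
  simp only [Abelian.Ext.zero_comp] at h3
  rw [Abelian.Ext.comp_assoc_of_third_deg_zero, Abelian.Ext.mk₀_comp_mk₀] at h3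
  have h4 : Abelian.Ext.mk₀ ((BigSite.bigAdj K f AddCommGrpCat.{u + 1}).unit.app F ≫ ρ) =
    Abelian.Ext.mk₀ (𝟙 F) := congrArg _ hρ
  rw [← Abelian.Ext.comp_mk₀_id x, ← h4]
  exact h3

end K986.PushExact
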