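import Groth.Agent.GaDual.K986.TrOne
import Groth.Agent.GaDual.K986.DieFin
import Groth.Agent.GaDual.K986.GadLP
import Groth.Agent.VarietyA.SmoothSepPoint
import Groth.Agent.S2451
import Groth.Agent.S2162
import Groth.Agent.S2775
import Groth.Agent.Algz.K574.HensFin
import Groth.Agent.Hensel.Exist
import Mathlib.RingTheory.Etale.Field

/-! Points of finite type subalgebras of separable extensions; étale algebras over henselian local rings. -/

set_option autoImplicit false
universe u
open CategoryTheory CategoryTheory.Limits AlgebraicGeometry Opposite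

noncomputable section

namespace K986.SepFld

open DieFin

/-- An algebra of finite presentation over a field `k` mapping to a separable extension of `k` has a point with values
in a finite separable extension. -/
theorem exists_point (k L : Type u) [Field k] [Field L] [Algebra k L] [Algebra.FormallySmooth k L]
    (B : Type u) [CommRing B] [Algebra k B] [Algebra.FiniteType k B] (φ : B →ₐ[k] L) :
    ∃ (k' : Type u) (_ : Field k') (_ : Algebra k k'), FiniteDimensional k k' ∧
      Algebra.IsSeparable k k' ∧ Nonempty (B →ₐ[k] k') := by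
  let A := φ.range
  have hA : Algebra.FiniteType k A := Algebra.FiniteType.of_surjective φ.rangeRestrict φ.rangeRestrict_surjective
  have hAp : Algebra.FinitePresentation k A := Algebra.FinitePresentation.of_finiteType.mp hA
  let K := FractionRing A
  have hg : Algebra.IsGeometricallyReduced k L := Groth.Agent.S2451.result.mp inferInstance
  let i : K →ₐ[A] L := IsFractionRing.liftAlgHom (A := A) (K := K) (L := L) (g := Algebra.ofId A L) Subtype.val_injective
  have hK : Algebra.IsGeometricallyReduced k K :=
    Algebra.IsGeometricallyReduced.of_injective (i.restrictScalars k) i.toRingHom.injective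
  have hs : Algebra.IsSmoothAt k (⊥ : Ideal A) :=
    (Groth.Agent.S2162.result (R := k) (S := A) (K := k) (L := K)).mpr hK
  obtain ⟨f, hf, hsm⟩ := Algebra.IsSmoothAt.exists_notMem_smooth k (⊥ : Ideal A)
  have hf0 : f ≠ 0 := hf
  have hnt : Nontrivial (Localization.Away f) :=
    (IsLocalization.injective (Localization.Away f)
      (powers_le_nonZeroDivisors_of_noZeroDivisors hf0)).nontrivial
  obtain ⟨k', _, _, h1, h2, ⟨ψ⟩⟩ := Groth.Agent.VarietyA.SmoothSepPoint.exists_of_smooth k (Localization.Away f)
  exact ⟨k', inferInstance, inferInstance, h1, h2, ⟨ψ.comp ((Algebra.algHom k A _).comp φ.rangeRestrict)⟩⟩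

theorem pull_injective (k L : Type u) [Field k] [Field L] [Algebra k L] [Algebra.FormallySmooth k L] (n : ℕ) :
    Function.Injective (HRes.pull Scheme.fppfPrecoverage (Spec.map (CommRingCat.ofHom (algebraMap k L)))
      (K771.Char.Gad (Spec (CommRingCat.of k))) n) := by
  rw [injective_iff_map_eq_zero]
  intro x hx
  obtain ⟨B, _, _, _, φ, hB⟩ := exists_fp_alg x GadLP.lp_gad L hx
  obtain ⟨k', _, _, h1, h2, ⟨ψ⟩⟩ := exists_point k L B φ
  have h3 := hB.map x ψ
  have h5 : Algebra.FormallyEtale k k' := Algebra.FormallyEtale.of_isSeparable k k'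
  have h6 : Algebra.FinitePresentation k k' := Algebra.FinitePresentation.of_finiteType.mp inferInstance
  have h4 : Algebra.Etale k k' := Algebra.Etale.mk
  obtain ⟨a, ha⟩ := Algebra.trace_surjective k k' 1
  exact (injective_iff_map_eq_zero _).mp (TrOne.pull_injective k k' a ha n) x h3

/-- The strict henselization of a Noetherian henselian local ring. -/
theorem pull_injective_sh (R : Type u) [CommRing R] [IsLocalRing R] [HenselianLocalRing R] [IsNoetherianRing R]
    (Rsh : Type u) [CommRing Rsh] [IsLocalRing Rsh] [Algebra R Rsh] [IsLocalHom (algebraMap R Rsh)]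
    [Hensel.IsStrictHenselization R Rsh] (n : ℕ) :
    Function.Injective (HRes.pull Scheme.fppfPrecoverage (Spec.map (CommRingCat.ofHom (algebraMap R Rsh)))
      (K771.Char.Gad (Spec (CommRingCat.of R))) n) := by
  rw [injective_iff_map_eq_zero]
  intro x hx
  obtain ⟨B, _, _, _, φ, hB⟩ := exists_fp_alg x GadLP.lp_gad Rsh hx
  obtain ⟨E, _, _, _, ψ, χ, hχ⟩ := (Groth.Agent.Hensel.Exist.isHull_of_isStrictHenselization R Rsh).lazard B φ
  have hE := hB.map x ψ
  let q : Ideal E := RingHom.ker ((IsLocalRing.residue Rsh).comp χ.toRingHom)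
  have hq : q.IsPrime := RingHom.ker_isPrime _
  have hq2 : q.comap (algebraMap R E) = IsLocalRing.maximalIdeal R := by
    ext r
    rw [Ideal.mem_comap, RingHom.mem_ker, RingHom.comp_apply]
    change IsLocalRing.residue Rsh (χ (algebraMap R E r)) = 0 ↔ _
    rw [χ.commutes, IsLocalRing.residue_eq_zero_iff, IsLocalRing.mem_maximalIdeal, IsLocalRing.mem_maximalIdeal,
      mem_nonunits_iff, mem_nonunits_iff, isUnit_map_iff]
  obtain ⟨D, _, _, _, _, _, g, hg⟩ := K574.HensFin.exists_finite_etale R E q hq2
  have hD := hE.map x g
  have h1 : Module.Free R D := Module.free_of_flat_of_isLocalRing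
  have h2 : Module.FaithfullyFlat R D := K574.HensFin.faithfullyFlat R D
  obtain ⟨a, ha⟩ := Groth.Agent.S2775.result R D 1
  exact (injective_iff_map_eq_zero _).mp (TrOne.pull_injective R D a ha n) x hD

end K986.SepFld
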