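import Groth.Agent.GaDual.K986.GaRetr
import Mathlib.RingTheory.Trace.Basic

/-! Elements of trace one of a finite free algebra satisfy the trace condition over split objects. -/

set_option autoImplicit false
universe u
open CategoryTheory CategoryTheory.Limits AlgebraicGeometry TopologicalSpace Opposite TensorProduct

noncomputable section

namespace K986.TrOne

open K778.NormAlg K778.NormSch K778.NormSplit K778 Groth.Agent.Etbase.FinEtSplit GaRetr

/-- Trace and base change. -/
theorem trace_algebraMap_of_isPushout {A B A' B' : Type*} [CommRing A] [CommRing B] [CommRing A'] [CommRing B']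
    [Algebra A B] [Algebra A A'] [Algebra A B'] [Algebra A' B'] [Algebra B B'] [IsScalarTower A B B']
    [IsScalarTower A A' B'] [Algebra.IsPushout A A' B B'] [Module.Free A B] [Module.Finite A B] (b : B) :
    Algebra.trace A' B' (algebraMap B B' b) = algebraMap A A' (Algebra.trace A B b) := by
  rw [Algebra.trace_apply, Algebra.trace_apply, ← LinearMap.trace_baseChange,
    ← LinearMap.trace_conj' ((Algebra.lmul A B b).baseChange A')
      (Algebra.IsPushout.equiv A A' B B').toLinearEquiv]
  congr 1
  ext x
  obtain ⟨y, rfl⟩ := (Algebra.IsPushout.equiv A A' B B').surjective x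
  rw [LinearEquiv.conj_apply]
  simp only [LinearMap.comp_apply, LinearEquiv.coe_coe, AlgEquiv.toLinearEquiv_apply]
  rw [show (Algebra.IsPushout.equiv A A' B B').toLinearEquiv.symm
    ((Algebra.IsPushout.equiv A A' B B') y) = y from
      (Algebra.IsPushout.equiv A A' B B').symm_apply_apply y]
  induction y using TensorProduct.induction_on with
  | zero => simp
  | add x y hx hy => rw [map_add, map_add, hx, hy, map_add, map_add]
  | tmul a c =>
    simp [Algebra.IsPushout.equiv_tmul]
    ring

theorem trace_pi {A : Type*} [CommRing A] {I : Type*} [Fintype I] (x : I → A) :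
    Algebra.trace A (I → A) x = ∑ i, x i := by
  classical
  rw [Algebra.trace_eq_matrix_trace (Pi.basisFun A I)]
  have : Algebra.leftMulMatrix (Pi.basisFun A I) x = Matrix.diagonal x := by
    ext i j
    rw [Algebra.leftMulMatrix_eq_repr_mul, Pi.basisFun_repr, Pi.basisFun_apply]
    by_cases h : i = j
    · subst h; simp
    · simp [h]
  rw [this, Matrix.trace_diagonal]

theorem sum_of_isPushout (R R' : Type u) [CommRing R] [CommRing R'] [Algebra R R'] [Module.Finite R R']
    [Module.Free R R'] {A' B' : CommRingCat.{u}} {α : CommRingCat.of R ⟶ A'} {β : CommRingCat.of R' ⟶ B'}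
    {φ' : A' ⟶ B'} (h : IsPushout (CommRingCat.ofHom (algebraMap R R')) α β φ') {n : ℕ}
    (σ : Fin n → (B' →+* A')) (hσ : ∀ i a, σ i (φ'.hom a) = a)
    (hb : Function.Bijective (fun (b : B') (i : Fin n) => σ i b)) (b : R') :
    ∑ i, σ i (β.hom b) = α.hom (Algebra.trace R R' b) := by
  algebraize [α.hom, β.hom, φ'.hom, φ'.hom.comp α.hom]
  have e : (φ'.hom.comp α.hom) = (algebraMap R' B').comp (algebraMap R R') := by
    have := h.w
    exact congrArg (fun q => q.hom) this.symm
  have : IsScalarTower R R' B' := IsScalarTower.of_algebraMap_eq fun a => congrArg (fun q : R →+* B' => q a) e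
  have : IsScalarTower R A' B' := IsScalarTower.of_algebraMap_eq fun a => rfl
  have h' : Algebra.IsPushout R A' R' B' := (CommRingCat.isPushout_iff_isPushout).mp h.flip
  have h1 := trace_algebraMap_of_isPushout (A := R) (B := R') (A' := A') (B' := B') b
  let e : B' ≃ₐ[A'] (Fin n → A') := AlgEquiv.ofBijective
    { toFun := fun b i => σ i b
      map_one' := by ext; simp
      map_zero' := by ext; simp
      map_mul' := fun x y => by ext; simp
      map_add' := fun x y => by ext; simp
      commutes' := fun a => by ext i; exact hσ i a } hb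
  have h2 : Algebra.trace A' (Fin n → A') (e (β.hom b)) = Algebra.trace A' B' (β.hom b) :=
    Algebra.trace_eq_of_algEquiv e (β.hom b)
  rw [trace_pi] at h2
  exact h2.trans h1

section Sch

variable (R R' : Type u) [CommRing R] [CommRing R'] [Algebra R R'] [Module.Finite R R'] [Module.Free R R']

/-- the morphism of spectra -/
abbrev fR : Spec (CommRingCat.of R') ⟶ Spec (CommRingCat.of R) := Spec.map (CommRingCat.ofHom (algebraMap R R'))

instance : IsFinite (fR R R') := (IsFinite.SpecMap_iff _).mpr (by
  change (algebraMap R R').Finite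
  rwa [RingHom.finite_algebraMap])

variable [Algebra.Etale R R']

instance : Etale (fR R R') := (HasRingHomProperty.Spec_iff (P := @Etale)).mpr (by
  change (algebraMap R R').Etale
  rwa [RingHom.etale_algebraMap])

/-- the function attached to an element -/
def lamF (a : R') : Γ(Spec (CommRingCat.of R'), ⊤) := (Scheme.ΓSpecIso (CommRingCat.of R')).inv a

theorem sum_affine (a : R') (V : Over (Spec (CommRingCat.of R))) [IsAffine V.left] {n : ℕ}
    {s : Fin n → (V.left ⟶ Spec (CommRingCat.of R'))} (hs : IsSplit (fR R R') V.hom s) :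
    ∑ j, (s j).appTop (lamF R' a) = V.hom.appTop ((Scheme.ΓSpecIso (CommRingCat.of R)).inv (Algebra.trace R R' a)) := by
  have : IsAffine ((Over.pullback (fR R R')).obj V).left := by
    have : IsAffineHom (pullback.fst V.hom (fR R R')) := inferInstance
    exact isAffine_of_isAffineHom (pullback.fst V.hom (fR R R'))
  have h0 : IsPushout (fR R R').appTop V.hom.appTop (pullback.snd V.hom (fR R R')).appTop
      (pullback.fst V.hom (fR R R')).appTop :=
    isPushout_appTop_of_isPullback (IsPullback.of_hasPullback V.hom (fR R R')).flip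
  have h1 : IsPushout (CommRingCat.ofHom (algebraMap R R')) (Scheme.ΓSpecIso (CommRingCat.of R)).inv
      (Scheme.ΓSpecIso (CommRingCat.of R')).inv (fR R R').appTop :=
    IsPushout.of_vert_isIso ⟨(Scheme.ΓSpecIso_inv_naturality _)⟩
  have h2 := h1.paste_vert h0
  have h3 := sum_of_isPushout R R' h2 (fun j => (cc (hs.w j)).left.appTop.hom) (fun i b => by
    have := comp_appTop_apply (cc (hs.w i)).left (pr (fR R R') V) b
    rw [cc_pr] at this
    exact this.symm.trans (by simp)) (bijective_cc hs) a
  refine Eq.trans (Finset.sum_congr rfl fun j _ => ?_) h3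
  have h4 : (cc (hs.w j)).left ≫ pullback.snd V.hom (fR R R') = s j := Over.w (cc (hs.w j))
  change (s j).appTop (lamF R' a) = (cc (hs.w j)).left.appTop ((pullback.snd V.hom (fR R R')).appTop (lamF R' a))
  rw [← comp_appTop_apply, h4]

theorem trOne (a : R') (ha : Algebra.trace R R' a = 1) : TrOne (fR R R') (lamF R' a) := by
  intro V n s hs
  refine ext_appTop V.left (fun U : V.left.affineOpens => U.1) (by rw [iSup_affineOpens_eq_top]) _ _ fun U => ?_
  have : IsAffine (Over.mk (U.1.ι ≫ V.hom)).left := U.2
  have h1 := sum_affine R R' a (Over.mk (U.1.ι ≫ V.hom)) (s := fun j => U.1.ι ≫ s j) (hs.comp U.1.ι)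
  rw [map_sum, map_one]
  refine Eq.trans (Finset.sum_congr rfl fun j _ => ?_) (h1.trans ?_)
  · exact (comp_appTop_apply _ _ _).symm
  · rw [ha, map_one, map_one]

/-- Injectivity of pullback along a finite étale extension with an element of trace one, for the dual of `G_a`. -/
theorem pull_injective [IsNoetherianRing R] (a : R') (ha : Algebra.trace R R' a = 1) (n : ℕ) :
    Function.Injective (HRes.pull Scheme.fppfPrecoverage (fR R R') (K771.Char.Gad (Spec (CommRingCat.of R))) n) := by
  have : IsLocallyNoetherian (Spec (CommRingCat.of R)) := inferInstance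
  exact GaRetr.pull_injective (fR R R') (lamF R' a) (trOne R R' a ha) n

end Sch

end K986.TrOne
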